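import Cfsg.Agent.Lib.Recog.SporBound.Sound
import Cfsg.Agent.Lib.Recog.SporBound.McLCentP.Tree0

set_option autoImplicit false
set_option maxRecDepth 20000

/-! Generated closure certificate: N(P) over its part in C(t), for McL (owner: helper25). -/

namespace CfsgLib.Recog.SporBound.McLCentP
open CfsgLib.Recog.SporBound

noncomputable def factTree : Q (ℕ) := ft5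
noncomputable def nodeTree : Q (ℕ) := ct0
noncomputable def stepTree : Q (List ℕ) := st6
noncomputable def finalTree : Q (List ℕ) := (.node et0 et1 (.leaf []) (.leaf []))

/-- The certificate. -/
noncomputable def cert : Cert where
  n := 15
  nd := 183
  nf := 527
  kl := [0, 1, 2, 7, 8, 3]
  facts := factTree
  cn := nodeTree
  steps := stepTree
  finals := finalTree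
  rels := [[0, 0], [1, 1], [2, 2], [3, 3], [4, 4], [5, 5], [6, 6], [7, 7], [8, 8], [0, 2, 0, 2, 0, 2, 0, 2], [0, 7, 0, 7, 0, 7], [0, 8, 0, 8], [1, 8, 1, 8], [2, 7, 2, 7], [2, 8, 2, 8, 2, 8], [7, 8, 7, 8, 7, 8, 7, 8], [0, 1, 0, 7, 1, 7], [0, 1, 0, 2, 7, 2, 1, 7], [0, 1, 0, 8, 7, 1, 7, 8], [0, 2, 8, 2, 8, 2, 0, 8], [0, 7, 0, 7, 8, 0, 8, 7], [0, 7, 1, 7, 0, 8, 1, 8], [1, 2, 1, 7, 1, 2, 1, 7], [1, 2, 8, 2, 8, 2, 1, 8], [2, 7, 8, 2, 8, 2, 8, 7], [0, 1, 0, 1, 2, 0, 1, 0, 1, 2], [0, 1, 0, 1, 2, 7, 1, 7, 1, 2], [0, 1, 0, 1, 2, 7, 2, 1, 7, 1], [0, 1, 0, 1, 7, 2, 1, 7, 1, 2], [0, 1, 7, 8, 0, 1, 8, 7, 0, 7], [0, 2, 0, 2, 0, 2, 8, 0, 8, 2], [0, 2, 0, 7, 8, 2, 0, 2, 8, 7], [0, 2, 8, 7, 8, 2, 0, 7, 8, 7], [1, 2, 1, 7, 1, 2, 8, 1, 8, 7],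 [0, 1, 0, 2, 1, 2, 8, 2, 1, 2, 8], [0, 1, 2, 0, 2, 7, 0, 2, 0, 7, 1], [0, 1, 2, 0, 2, 8, 2, 0, 2, 1, 8], [0, 1, 2, 0, 8, 2, 0, 2, 8, 2, 1], [0, 1, 2, 7, 0, 2, 7, 0, 7, 2, 1], [0, 1, 7, 0, 8, 7, 0, 8, 7, 1, 8], [2, 3, 2, 3, 2, 3], [7, 3, 7, 3, 7, 3, 7, 3, 7, 3], [0, 2, 3, 0, 2, 3, 0, 2, 3], [1, 2, 3, 1, 2, 3, 1, 2, 3], [2, 0, 3, 2, 0, 3, 2, 0, 3], [2, 1, 3, 2, 1, 3, 2, 1, 3], [2, 7, 3, 2, 7, 3, 2, 7, 3, 2, 7, 3, 2, 7, 3], [0, 1, 2, 3, 0, 1, 2, 3, 0, 1, 2, 3], [0, 2, 1, 3, 0, 2, 1, 3, 0, 2, 1, 3], [0, 7, 0, 3, 0, 7, 0, 3, 0, 7, 0, 3, 0, 7, 0, 3, 0, 7, 0, 3], [1, 0, 2, 3, 1, 0, 2, 3, 1, 0, 2, 3], [2, 1, 0, 3, 2, 1, 0, 3, 2, 1, 0, 3], [2, 1, 7, 3, 2, 1, 7, 3, 2, 1, 7, 3, 2, 1, 7, 3, 2, 1, 7, 3], [2, 8, 2, 3, 2, 8, 2, 3, 2, 8,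 2, 3], [2, 8, 7, 3, 2, 8, 7, 3, 2, 8, 7, 3, 2, 8, 7, 3, 2, 8, 7, 3], [7, 0, 2, 3, 7, 0, 2, 3, 7, 0, 2, 3, 7, 0, 2, 3, 7, 0, 2, 3], [7, 1, 2, 3, 7, 1, 2, 3, 7, 1, 2, 3, 7, 1, 2, 3, 7, 1, 2, 3], [0, 1, 0, 2, 3, 0, 1, 0, 2, 3, 0, 1, 0, 2, 3], [0, 1, 2, 0, 3, 0, 1, 2, 0, 3, 0, 1, 2, 0, 3], [0, 2, 7, 0, 3, 0, 2, 7, 0, 3, 0, 2, 7, 0, 3, 0, 2, 7, 0, 3, 0, 2, 7, 0, 3], [1, 2, 8, 2, 3, 1, 2, 8, 2, 3, 1, 2, 8, 2, 3], [1, 2, 8, 7, 3, 1, 2, 8, 7, 3, 1, 2, 8, 7, 3, 1, 2, 8, 7, 3, 1, 2, 8, 7, 3], [1, 7, 8, 2, 3, 1, 7, 8, 2, 3, 1, 7, 8, 2, 3, 1, 7, 8, 2, 3, 1, 7, 8, 2, 3], [2, 1, 2, 7, 3, 2, 1, 2, 7, 3, 2, 1, 2, 7, 3, 2, 1, 2, 7, 3, 2, 1, 2, 7, 3], [2, 8, 2, 1, 3, 2, 8, 2, 1, 3, 2, 8, 2, 1, 3], [3, 0, 1, 2, 0, 2, 1, 2, 0, 2, 3, 7, 0, 2,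 0, 7], [3, 2, 1, 2, 3, 1, 0, 2, 1, 2, 0], [3, 0, 1, 2, 0, 1, 2, 8, 2, 3, 2, 0, 2, 8, 0, 1, 2]]
  subs := [[0], [1], [2], [7], [8]]

/-- Chains of the traced words. -/
noncomputable def closers : List ℕ := []

end CfsgLib.Recog.SporBound.McLCentP
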